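import Mathlib.RingTheory.Derivation.Basic
import Mathlib.RingTheory.Ideal.Maps
import Mathlib.Algebra.Module.Projective

/-!
Derivations extending a linear map on an ideal inside an augmentation ideal.
-/

universe u v w

namespace GrothLib.SmoothAug

variable {R : Type u} {A : Type v} [CommRing R] [CommRing A] [Algebra R A] (ε : A →ₐ[R] R) (J : Ideal A)

/-- If `J ⊓ I ^ 2 = I * J` and `I / (J + I ^ 2)` is projective over `R`, a linear map on `J` into a module killed
by `I` extends to a derivation of `A`. -/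
theorem exists_derivation (hJI : J ≤ RingHom.ker ε)
    (h2 : J ⊓ RingHom.ker ε ^ 2 = RingHom.ker ε * J)
    (h3 : Module.Projective R (↥(RingHom.ker ε) ⧸ Submodule.comap (RingHom.ker ε).subtype (J ⊔ RingHom.ker ε ^ 2)))
    {M : Type w} [AddCommGroup M] [Module A M] [Module R M] [IsScalarTower R A M]
    (hM : ∀ x ∈ RingHom.ker ε, ∀ m : M, x • m = 0) (κ : J →ₗ[A] M) :
    ∃ D : Derivation R A M, ∀ j : J, D j.1 = κ j := by
  classical
  set I := RingHom.ker ε with hI
  have hκIJ : ∀ j : J, (j : A) ∈ I * J → κ j = 0 := by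
    intro j hj
    have key : ∃ hz : (j : A) ∈ J, κ ⟨j.1, hz⟩ = 0 := by
      refine Submodule.mul_induction_on (C := fun z => ∃ hz : z ∈ J, κ ⟨z, hz⟩ = 0) hj ?_ ?_
      · intro a ha b hb
        refine ⟨J.mul_mem_left a hb, ?_⟩
        have e : (⟨a * b, J.mul_mem_left a hb⟩ : J) = a • (⟨b, hb⟩ : J) := Subtype.ext rfl
        rw [e, map_smul, hM a ha]
      · rintro z w ⟨hz, hz0⟩ ⟨hw, hw0⟩
        refine ⟨J.add_mem hz hw, ?_⟩
        have e : (⟨z + w, J.add_mem hz hw⟩ : J) = ⟨z, hz⟩ + ⟨w, hw⟩ := Subtype.ext rfl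
        rw [e, map_add, hz0, hw0, add_zero]
    exact key.2
  let π : I →ₗ[R] (↥I ⧸ Submodule.comap I.subtype (J ⊔ I ^ 2)) :=
    (Submodule.mkQ (Submodule.comap I.subtype (J ⊔ I ^ 2))).restrictScalars R
  obtain ⟨σ, hσ⟩ := Module.projective_lifting_property π LinearMap.id (Submodule.mkQ_surjective _)
  have hπσ : ∀ q, π (σ q) = q := fun q => LinearMap.congr_fun hσ q
  have hdec : ∀ x : I, ∃ j : J, (x : A) - (σ (π x) : I).1 - (j : A) ∈ I ^ 2 := by
    intro x
    have h : π (x - σ (π x)) = 0 := by rw [map_sub, hπσ, sub_self]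
    have h' : ((x - σ (π x) : I) : A) ∈ J ⊔ I ^ 2 := Submodule.mem_comap.mp ((Submodule.Quotient.mk_eq_zero (Submodule.comap I.subtype (J ⊔ I ^ 2))).mp h)
    obtain ⟨j, hj, q, hq, hjq⟩ := Submodule.mem_sup.mp h'
    refine ⟨⟨j, hj⟩, ?_⟩
    rw [Submodule.coe_sub] at hjq
    rw [← hjq]
    simpa using hq
  choose J' hJ' using hdec
  let r : I → M := fun x => κ (J' x)
  have hr_unique : ∀ (x : I) (j : J), (x : A) - (σ (π x) : I).1 - (j : A) ∈ I ^ 2 → r x = κ j := by
    intro x j hj
    have hmem : ((J' x : A) - j) ∈ J ⊓ I ^ 2 := by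
      refine ⟨J.sub_mem (J' x).2 j.2, ?_⟩
      have := (I ^ 2).sub_mem hj (hJ' x)
      simpa [sub_sub_sub_cancel_left] using this
    rw [h2] at hmem
    have h0 := hκIJ (J' x - j) hmem
    rw [map_sub, sub_eq_zero] at h0
    exact h0
  have hradd : ∀ x y : I, r (x + y) = r x + r y := by
    intro x y
    rw [hr_unique (x + y) (J' x + J' y) ?_, map_add]
    have := (I ^ 2).add_mem (hJ' x) (hJ' y)
    simp only [map_add, Submodule.coe_add]
    convert this using 1
    ring
  have hrsq : ∀ x : I, (x : A) ∈ I ^ 2 → r x = 0 := by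
    intro x hx
    have h0 : π x = 0 := (Submodule.Quotient.mk_eq_zero _).mpr (Submodule.mem_sup_right hx)
    rw [hr_unique x 0 (by simpa [h0] using hx), map_zero]
  have hrR : ∀ (c : R) (x : I), r (c • x) = c • r x := by
    intro c x
    rw [hr_unique (c • x) (algebraMap R A c • J' x) ?_, map_smul, algebraMap_smul]
    have := (I ^ 2).mul_mem_left (algebraMap R A c) (hJ' x)
    have e : (σ (π (c • x)) : I).1 = algebraMap R A c * (σ (π x) : I).1 := by
      rw [map_smul, map_smul]; exact Algebra.smul_def c ((σ (π x) : I) : A)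
    have e2 : ((c • x : I) : A) = algebraMap R A c * x := Algebra.smul_def c (x : A)
    rw [e, e2, Submodule.coe_smul, smul_eq_mul]
    convert this using 1
    ring
  have hεI : ∀ a : A, a - algebraMap R A (ε a) ∈ I := fun a => by
    change ε (a - algebraMap R A (ε a)) = 0
    rw [map_sub, AlgHom.commutes]; exact sub_self _
  have hrA : ∀ (a : A) (x : I), r (a • x) = a • r x := by
    intro a x
    have h7 : a • x = (⟨(a - algebraMap R A (ε a)) * x, I.mul_mem_right _ (hεI a)⟩ : I) + ε a • x :=
      Subtype.ext (by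
        simp only [Submodule.coe_add, Submodule.coe_smul, smul_eq_mul]
        rw [show ((ε a • x : I) : A) = algebraMap R A (ε a) * x from Algebra.smul_def _ _]
        ring)
    have h8 : r ⟨(a - algebraMap R A (ε a)) * x, I.mul_mem_right _ (hεI a)⟩ = 0 :=
      hrsq _ (by rw [pow_two]; exact Ideal.mul_mem_mul (hεI a) x.2)
    rw [h7, hradd, h8, hrR, zero_add]
    have h9 := hM _ (hεI a) (r x)
    rw [sub_smul, sub_eq_zero, algebraMap_smul] at h9
    exact h9.symm
  let Dlin : A →ₗ[R] M :=
    { toFun := fun a => r ⟨a - algebraMap R A (ε a), hεI a⟩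
      map_add' := fun a b => by
        rw [← hradd]; congr 1; exact Subtype.ext (by simp only [map_add, Submodule.coe_add]; ring)
      map_smul' := fun c a => by
        rw [RingHom.id_apply, ← hrR]
        congr 1
        refine Subtype.ext ?_
        change c • a - algebraMap R A (ε (c • a)) = c • (a - algebraMap R A (ε a))
        rw [smul_sub, map_smul, smul_eq_mul, map_mul, Algebra.smul_def c (algebraMap R A (ε a))] }
  refine ⟨Derivation.mk' Dlin fun a b => ?_, fun j => ?_⟩
  · change r _ = a • r _ + b • r _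
    rw [← hrA, ← hrA, ← hradd]
    set x : I := ⟨a * b - algebraMap R A (ε (a * b)), hεI _⟩
    set y : I := a • (⟨b - algebraMap R A (ε b), hεI b⟩ : I) + b • ⟨a - algebraMap R A (ε a), hεI a⟩
    have h : r (x - y) = 0 := hrsq _ (by
      have : ((x - y : I) : A) = -((a - algebraMap R A (ε a)) * (b - algebraMap R A (ε b))) := by
        simp only [x, y, Submodule.coe_sub, Submodule.coe_add, Submodule.coe_smul, smul_eq_mul, map_mul]
        ring
      rw [this, pow_two]
      exact neg_mem (Ideal.mul_mem_mul (hεI a) (hεI b)))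
    have h10 := hradd (x - y) y
    rw [sub_add_cancel, h, zero_add] at h10
    exact h10
  · change r ⟨j.1 - algebraMap R A (ε j.1), hεI _⟩ = κ j
    have hε : ε j.1 = 0 := hJI j.2
    have hπ0 : π ⟨j.1 - algebraMap R A (ε j.1), hεI _⟩ = 0 :=
      (Submodule.Quotient.mk_eq_zero _).mpr (Submodule.mem_sup_left (by
        change j.1 - algebraMap R A (ε j.1) ∈ J
        rw [hε, map_zero, sub_zero]; exact j.2))
    exact hr_unique _ j (by rw [hπ0]; simp [hε])

end GrothLib.SmoothAug
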